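import Groth.Agent.ModSiteLib.KFlatBounded
import Groth.Agent.DerCompLib.LTensorFlat
import Groth.Agent.ModSiteLib.BimapExact
import Mathlib.Algebra.Homology.HomologySequence
import Mathlib.Algebra.Homology.ShortComplex.ExactFunctor

/-!
# Exactness of `M ↦ H^p(M ⊗ᴸ E)` on a ringed site
-/

set_option autoImplicit false
set_option linter.all false
set_option backward.isDefEq.respectTransparency false
set_option backward.isDefEq.respectTransparency.types false
set_option maxHeartbeats 1000000

universe u

open CategoryTheory CategoryTheory.Limits HomologicalComplex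
open KFlatLib

attribute [local instance] HasDerivedCategory.standard

noncomputable section

namespace SiteExactLib

variable {C : Type u} [SmallCategory C] {J : GrothendieckTopology C} {O : Sheaf J CommRingCat.{u}}

/-- `M ↦ (M ⊗ E^n)ₙ`. -/
def gT (E : CochainComplex (ModSite.Mod O) ℤ) : ModSite.Mod O ⥤ CochainComplex (ModSite.Mod O) ℤ where
  obj M := (((ModSite.tensorBi O).obj M).mapHomologicalComplex (ComplexShape.up ℤ)).obj E
  map f :=
    { f := fun n => ((ModSite.tensorBi O).map f).app (E.X n)
      comm' := fun i j _ => (((ModSite.tensorBi O).map f).naturality (E.d i j)).symm }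
  map_id M := by
    ext n : 1
    exact (NatTrans.congr_app ((ModSite.tensorBi O).map_id M) (E.X n))
  map_comp f g := by
    ext n : 1
    exact (NatTrans.congr_app ((ModSite.tensorBi O).map_comp f g) (E.X n))

instance (E : CochainComplex (ModSite.Mod O) ℤ) : (gT E).Additive where
  map_add {M N f g} := by
    ext n : 1
    exact (NatTrans.congr_app ((ModSite.tensorBi O).map_add (f := f) (g := g)) (E.X n))

theorem nonempty_gT_iso (E : CochainComplex (ModSite.Mod O) ℤ) :
    Nonempty (gT E ≅ single (ModSite.Mod O) (ComplexShape.up ℤ) 0 ⋙ ModSiteLib.tF O E) :=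
  ⟨NatIso.ofComponents (fun M => Groth.Agent.ModSiteLib.BimapExact.singleIso (ModSite.tensorBi O) E M)
    fun {M N} f => by
      ext n : 1
      change ((ModSite.tensorBi O).map f).app (E.X n) ≫
          Groth.Agent.ModSiteLib.BimapExact.singleMap (ModSite.tensorBi O) E N n =
        Groth.Agent.ModSiteLib.BimapExact.singleMap (ModSite.tensorBi O) E M n ≫
          ((bimap₁ (ModSite.tensorBi O) E).map ((single (ModSite.Mod O) (ComplexShape.up ℤ) 0).map f)).f n
      rw [Groth.Agent.ModSiteLib.BimapExact.singleMap, Groth.Agent.ModSiteLib.BimapExact.singleMap,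
        Category.assoc, ι_bimap₁_map, ← Category.assoc, ← Category.assoc, ← NatTrans.comp_app, ← NatTrans.comp_app,
        ← Functor.map_comp, ← Functor.map_comp]
      congr 3⟩

theorem shortExact_gT {E : CochainComplex (ModSite.Mod O) ℤ} (hE : ∀ n, ModSite.IsFlat (E.X n))
    {S : ShortComplex (ModSite.Mod O)} (hS : S.ShortExact) : (S.map (gT E)).ShortExact := by
  refine shortExact_of_degreewise_shortExact _ fun n => ?_
  haveI := (hE n).1
  haveI := (hE n).2
  haveI : ((ModSite.tensorBi O).flip.obj (E.X n)).Additive := inferInstance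
  exact hS.map_of_exact ((ModSite.tensorBi O).flip.obj (E.X n))

/-- `- ⊗^L E` is computed by any K-flat complex quasi-isomorphic to `E`. -/
theorem nonempty_lTensorCx_iso_of (P P' : CochainComplex (ModSite.Mod O) ℤ) [ModSite.HasLTensorCx P]
    (r : P' ⟶ P) (hr : QuasiIso r) (hP' : ModSite.IsKFlat P') :
    Nonempty (DerivedCategory.Q ⋙ ModSite.LTensorCx P ≅ ModSite.tensorCxQ P') := by
  let W := HomologicalComplex.quasiIso (ModSite.Mod O) (ComplexShape.up ℤ)
  have hinv : W.IsInvertedBy (ModSite.tensorCxQ P') := fun K L g (hg : QuasiIso g) => by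
    haveI : QuasiIso (((ModSite.tensorCx O).flip.obj P').map g) :=
      KFlatLib.quasiIso_bimap₁ (ModSite.tensorBi O) P' hP' g
    exact (DerivedCategory.isIso_Q_map_iff_quasiIso (C := ModSite.Mod O)
      (((ModSite.tensorCx O).flip.obj P').map g)).2 inferInstance
  let G := Localization.lift (ModSite.tensorCxQ P') hinv DerivedCategory.Q
  let e : DerivedCategory.Q ⋙ G ≅ ModSite.tensorCxQ P' := Localization.fac _ hinv _
  let β : DerivedCategory.Q ⋙ G ⟶ ModSite.tensorCxQ P :=
    e.hom ≫ Functor.whiskerRight ((ModSite.tensorCx O).flip.map r) DerivedCategory.Q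
  haveI := Groth.Agent.DerCompLib.isRightKanExtension_of_iso_on_resolutions (fun X => ModSite.IsKFlat X) G β
    (fun Y => by
      obtain ⟨X, q, hX, hq⟩ := _root_.ModSiteLib.exists_kFlat_resolution Y
      exact ⟨X, q, hX, (DerivedCategory.isIso_Q_map_iff_quasiIso (C := ModSite.Mod O) q).2 hq⟩)
    (fun X hX => by
      haveI : QuasiIso (((ModSite.tensorCx O).obj X).map r) := by
        haveI := hr
        exact _root_.ModSiteLib.quasiIso_map_right hX r
      haveI : IsIso (DerivedCategory.Q.map (((ModSite.tensorCx O).obj X).map r)) :=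
        (DerivedCategory.isIso_Q_map_iff_quasiIso (C := ModSite.Mod O) _).2 inferInstance
      exact inferInstanceAs (IsIso (e.hom.app X ≫ DerivedCategory.Q.map (((ModSite.tensorCx O).obj X).map r))))
  haveI : (ModSite.LTensorCx P).IsRightKanExtension
      ((ModSite.tensorCxQ P).totalLeftDerivedCounit DerivedCategory.Q W) :=
    Functor.IsLeftDerivedFunctor.isRightKanExtension _ _ W
  exact ⟨Functor.isoWhiskerLeft _ (Functor.rightKanExtensionUnique (ModSite.LTensorCx P)
    ((ModSite.tensorCxQ P).totalLeftDerivedCounit DerivedCategory.Q W) G β) ≪≫ e⟩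

/-- The derived functor on modules through a K-flat replacement. -/
theorem nonempty_homology_iso (P P' : CochainComplex (ModSite.Mod O) ℤ) [ModSite.HasLTensorCx P]
    (r : P' ⟶ P) (hr : QuasiIso r) (hP' : ModSite.IsKFlat P') (n : ℤ) :
    Nonempty (DerivedCategory.singleFunctor (ModSite.Mod O) 0 ⋙ ModSite.LTensorCx P ⋙
        DerivedCategory.homologyFunctor (ModSite.Mod O) n ≅
      gT P' ⋙ homologyFunctor (ModSite.Mod O) (ComplexShape.up ℤ) n) := by
  obtain ⟨e⟩ := nonempty_lTensorCx_iso_of P P' r hr hP'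
  obtain ⟨g⟩ := nonempty_gT_iso P'
  exact ⟨Functor.isoWhiskerRight (DerivedCategory.singleFunctorIsoCompQ (ModSite.Mod O) 0) _ ≪≫
    Functor.associator _ _ _ ≪≫ Functor.isoWhiskerLeft _ ((Functor.associator _ _ _).symm ≪≫
      Functor.isoWhiskerRight e _ ≪≫ Functor.associator _ _ _ ≪≫
      Functor.isoWhiskerLeft _ (DerivedCategory.homologyFunctorFactors (ModSite.Mod O) n)) ≪≫
    (Functor.associator _ _ _).symm ≪≫ Functor.isoWhiskerRight g.symm _⟩

theorem rightExact_iff_leftExact_succ {D A : Type*} [Category D] [Abelian D] [Category A] [Abelian A]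
    (T : D ⥤ CochainComplex A ℤ) [T.Additive]
    (hT : ∀ S : ShortComplex D, S.ShortExact → (S.map T).ShortExact) (p : ℤ) :
    PreservesFiniteColimits (T ⋙ homologyFunctor A (ComplexShape.up ℤ) p) ↔
      PreservesFiniteLimits (T ⋙ homologyFunctor A (ComplexShape.up ℤ) (p + 1)) := by
  rw [(Functor.preservesFiniteColimits_tfae (T ⋙ homologyFunctor A (ComplexShape.up ℤ) p)).out 3 0 rfl rfl,
    (Functor.preservesFiniteLimits_tfae (T ⋙ homologyFunctor A (ComplexShape.up ℤ) (p + 1))).out 3 0 rfl rfl]
  refine forall₂_congr fun S hS => ?_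
  have h := hT S hS
  have h1 := h.homology_exact₁ p (p + 1) rfl
  have h3 := h.homology_exact₃ p (p + 1) rfl
  constructor
  · rintro ⟨-, he⟩
    exact ⟨h.homology_exact₂ (p + 1), h1.mono_g_iff.2 (h3.epi_f_iff.1 he)⟩
  · rintro ⟨-, hm⟩
    exact ⟨h.homology_exact₂ p, h3.epi_f_iff.2 (h1.mono_g_iff.1 hm)⟩

/-- Mono on homology and on the next term gives mono on opcycles. -/
theorem mono_opcyclesMap {A : Type*} [Category A] [Abelian A] {K L : CochainComplex A ℤ} (g : K ⟶ L) (i : ℤ)
    [Mono (homologyMap g i)] [Mono (g.f (i + 1))] : Mono (opcyclesMap g i) := by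
  refine Preadditive.mono_of_cancel_zero _ fun {W} a ha => ?_
  have hn : opcyclesMap g i ≫ L.fromOpcycles i (i + 1) = K.fromOpcycles i (i + 1) ≫ g.f (i + 1) := by
    rw [← cancel_epi (K.pOpcycles i), p_opcyclesMap_assoc, p_fromOpcycles, p_fromOpcycles_assoc, g.comm]
  have h1 : a ≫ K.fromOpcycles i (i + 1) = 0 := by
    rw [← cancel_mono (g.f (i + 1)), zero_comp, Category.assoc, ← hn, reassoc_of% ha, zero_comp]
  let b := (K.homologyIsKernel i (i + 1) (by simp)).lift (KernelFork.ofι a h1)
  have hb : b ≫ K.homologyι i = a := (K.homologyIsKernel i (i + 1) (by simp)).fac _ WalkingParallelPair.zero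
  have hb0 : b = 0 := by
    rw [← cancel_mono (homologyMap g i), zero_comp, ← cancel_mono (L.homologyι i), zero_comp, Category.assoc,
      homologyι_naturality, reassoc_of% hb, ha]
  rw [← hb, hb0, zero_comp]

variable (E : CochainComplex (ModSite.Mod O) ℤ) (p : ℤ)

/-- `opcycles` of `M ⊗ E` in degree `p + 1`. -/
theorem exists_opcycles_iso :
    ∃ φ : ∀ M : ModSite.Mod O, ((gT E).obj M).opcycles (p + 1) ≅
      ((ModSite.tensorBi O).obj M).obj (cokernel (E.d p (p + 1))),
      ∀ (M N : ModSite.Mod O) (f : M ⟶ N),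
        opcyclesMap ((gT E).map f) (p + 1) ≫ (φ N).hom =
          (φ M).hom ≫ ((ModSite.tensorBi O).map f).app (cokernel (E.d p (p + 1))) := by
  have hc : ∀ M : ModSite.Mod O, IsColimit (CokernelCofork.ofπ
      (((ModSite.tensorBi O).obj M).map (cokernel.π (E.d p (p + 1))))
      (show ((gT E).obj M).d p (p + 1) ≫ _ = 0 by
        change ((ModSite.tensorBi O).obj M).map _ ≫ _ = 0
        rw [← Functor.map_comp, cokernel.condition, Functor.map_zero])) := fun M => by
    haveI := ModSiteLib.preservesColimits_tensor O M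
    exact CokernelCofork.mapIsColimit _ (cokernelIsCokernel (E.d p (p + 1))) ((ModSite.tensorBi O).obj M)
  refine ⟨fun M => IsColimit.coconePointUniqueUpToIso
    (((gT E).obj M).opcyclesIsCokernel p (p + 1) (by simp)) (hc M), fun M N f => ?_⟩
  rw [← cancel_epi (((gT E).obj M).pOpcycles (p + 1))]
  have hM := IsColimit.comp_coconePointUniqueUpToIso_hom
    (((gT E).obj M).opcyclesIsCokernel p (p + 1) (by simp)) (hc M) WalkingParallelPair.one
  have hN := IsColimit.comp_coconePointUniqueUpToIso_hom
    (((gT E).obj N).opcyclesIsCokernel p (p + 1) (by simp)) (hc N) WalkingParallelPair.one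
  simp only [Cofork.ofπ_ι_app, CokernelCofork.π_ofπ] at hM hN
  rw [p_opcyclesMap_assoc, hN, reassoc_of% hM]
  exact (((ModSite.tensorBi O).map f).naturality (cokernel.π (E.d p (p + 1)))).symm

/-- Left exactness of `H^{p+1}` is flatness of the cokernel. -/
theorem leftExact_iff_isFlat (hE : ∀ n, ModSite.IsFlat (E.X n)) :
    PreservesFiniteLimits (gT E ⋙ homologyFunctor (ModSite.Mod O) (ComplexShape.up ℤ) (p + 1)) ↔
      ModSite.IsFlat (cokernel (E.d p (p + 1))) := by
  obtain ⟨φ, hφ⟩ := exists_opcycles_iso E p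
  rw [(Functor.preservesFiniteLimits_tfae (gT E ⋙ homologyFunctor (ModSite.Mod O) (ComplexShape.up ℤ) (p + 1))).out 3 0 rfl rfl]
  constructor
  · intro h
    refine ModSiteLib.isFlat_of_preservesMono ⟨fun {M N} f _ => ?_⟩
    let S := ShortComplex.mk f (cokernel.π f) (cokernel.condition f)
    have hS : S.ShortExact := { exact := ShortComplex.exact_of_g_is_cokernel _ (cokernelIsCokernel f) }
    haveI : Mono (homologyMap ((gT E).map f) (p + 1)) := (h S hS).2
    haveI : Mono (((gT E).map f).f (p + 1 + 1)) := by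
      haveI := (hE (p + 1 + 1)).1
      exact inferInstanceAs (Mono (((ModSite.tensorBi O).flip.obj (E.X (p + 1 + 1))).map f))
    haveI := mono_opcyclesMap ((gT E).map f) (p + 1)
    change Mono (((ModSite.tensorBi O).map f).app (cokernel (E.d p (p + 1))))
    rw [show ((ModSite.tensorBi O).map f).app (cokernel (E.d p (p + 1))) =
      (φ M).inv ≫ opcyclesMap ((gT E).map f) (p + 1) ≫ (φ N).hom by rw [hφ, Iso.inv_hom_id_assoc]]
    infer_instance
  · intro h S hS
    refine ⟨(shortExact_gT hE hS).homology_exact₂ (p + 1), ?_⟩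
    haveI := hS.mono_f
    haveI : Mono (((ModSite.tensorBi O).map S.f).app (cokernel (E.d p (p + 1)))) := by
      haveI := h.1
      exact inferInstanceAs (Mono (((ModSite.tensorBi O).flip.obj (cokernel (E.d p (p + 1)))).map S.f))
    haveI : Mono (opcyclesMap ((gT E).map S.f) (p + 1)) := by
      rw [show opcyclesMap ((gT E).map S.f) (p + 1) = (φ S.X₁).hom ≫
        ((ModSite.tensorBi O).map S.f).app (cokernel (E.d p (p + 1))) ≫ (φ S.X₂).inv by
          rw [← reassoc_of% (hφ S.X₁ S.X₂ S.f), Iso.hom_inv_id, Category.comp_id]]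
      infer_instance
    change Mono (homologyMap ((gT E).map S.f) (p + 1))
    haveI : Mono (homologyMap ((gT E).map S.f) (p + 1) ≫ ((gT E).obj S.X₂).homologyι (p + 1)) := by
      rw [homologyι_naturality]
      infer_instance
    exact mono_of_mono _ (((gT E).obj S.X₂).homologyι (p + 1))

end SiteExactLib
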